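import Groth.Agent.Etbc.H229.AcycLE
import Groth.Agent.EtpbcA.LAUnit
import Groth.Agent.EtpbcA.StalkTools
import Groth.Agent.EtpbcA.Present

/-!
# Truncated acyclicity from the comparison on affine étale schemes

`acycLE_of_affine`: `f : X ⟶ Y`, `F` on `Y`.  If for all affine `W` étale over `Y` the pullback
`H^q(W, F) ⟶ H^q(X ×_Y W, F)` is bijective for `q = 0` and surjective for `1 ≤ q ≤ n`, then `AcycLE f n F`.
-/

set_option autoImplicit false
universe u

open CategoryTheory CategoryTheory.Limits AlgebraicGeometry Opposite Abelian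
open scoped Groth.Agent.Etcore.EtInst
open Groth.Agent.Etcore.EtInst

namespace Groth.Agent.Etbc.H229.LocalA

open Groth.Agent.Etcore.HQ Groth.Agent.Etcore.RpushLoc Groth.Agent.Etcore.LimBC1
  Groth.Agent.Etbc.H229.AcycLE Groth.Agent.EtpbcB.BCIso
open Groth.Agent.Etcore.LimBC0 (mZ mZ_fst mZ_snd)

attribute [local instance] pfl

variable {X Y : Scheme.{u}}

/-- Positive degree classes on étale schemes die étale locally. -/
theorem exists_res_eq_zero (F : EtCoh.Ab Y) (n : ℕ) {Z : Scheme.{u}} (z : Z ⟶ Y) [Etale z]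
    (η : HQ F z (n + 1)) (x : Z) : ∃ (W : Scheme.{u}) (a : W ⟶ Z) (_ : Etale a) (y : W)
      (w : W ⟶ Y) (h : a ≫ z = w), a y = x ∧ res F a h (n + 1) η = 0 := by
  have h0 : IsZero ((EtCoh.Rpush (𝟙 Y) (n + 1)).obj F) :=
    Sga4A.EtSplit.isZero_Rpush (𝟙 Y) F (n + 1) n.succ_pos
  have h1 : HZ (𝟙 Y) F (n + 1) z := (isZero_Rpush_iff_hz' (𝟙 Y) F n).1 h0 (Scheme.Etale.mk z)
  have hz : pullback.snd (𝟙 Y) z ≫ z = pullback.fst (𝟙 Y) z := by
    rw [← pullback.condition, Category.comp_id]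
  obtain ⟨W, a, ha, y, w, h, hy, h2⟩ := h1.out (res F (pullback.snd (𝟙 Y) z) hz (n + 1) η) x
  refine ⟨W, a, ha, y, w, h, hy, ?_⟩
  have hw : pullback.snd (𝟙 Y) w ≫ w = pullback.fst (𝟙 Y) w := by
    rw [← pullback.condition, Category.comp_id]
  have e1 : mZ (𝟙 Y) a h ≫ pullback.snd (𝟙 Y) z = pullback.snd (𝟙 Y) w ≫ a := mZ_snd _ _ _
  have e2 := res_res F (pullback.snd (𝟙 Y) z) hz (mZ (𝟙 Y) a h) (mZ_fst (𝟙 Y) a h) _ rfl
    (by rw [Category.assoc, hz, mZ_fst]) (n + 1) η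
  have e3 := res_res F a h (pullback.snd (𝟙 Y) w) hw _ e1.symm
    (by rw [Category.assoc, hz, mZ_fst]) (n + 1) η
  rw [← res_eq_zero_iff F (pullback.snd (𝟙 Y) w) hw (n + 1), e3, ← e2]
  exact h2

theorem exists_affine_nhd_etale {Y : Scheme.{u}} (U : Y.Etale) (x : U.left) :
    ∃ (W : Y.Etale) (_ : IsAffine W.left) (k : W.left ⟶ U.left) (_ : Etale k) (w : W.left),
      k ≫ U.hom = W.hom ∧ k w = x := by
  obtain ⟨_, ⟨V, hV, rfl⟩, hxV, -⟩ := U.left.isBasis_affineOpens.exists_subset_of_mem_open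
    (Set.mem_univ x) isOpen_univ
  have hU : Etale U.hom := U.prop
  let V' : U.left.Opens := V
  have hVe : Etale V'.ι := inferInstance
  have hc : Etale (V'.ι ≫ U.hom) := inferInstance
  exact ⟨Scheme.Etale.mk (V'.ι ≫ U.hom), hV, V'.ι, hVe, ⟨x, hxV⟩, rfl, rfl⟩

/-- **Vanishing of `R^{n+1} f_* f⁻¹ F`** from surjectivity of pullback on affine étale schemes. -/
theorem isZero_Rpush_of_surjective (f : X ⟶ Y) (F : EtCoh.Ab Y) (n : ℕ)
    (h : ∀ W : Y.Etale, IsAffine W.left → Function.Surjective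
      (res F (pullback.snd f W.hom) (pullback.condition (f := f) (g := W.hom)).symm (n + 1))) :
    IsZero ((EtCoh.Rpush f (n + 1)).obj ((EtCoh.pull f).obj F)) := by
  rw [isZero_Rpush_iff_hz']
  intro U
  refine HZ.of_local fun x => ?_
  obtain ⟨W, hW, k, hk, w, hkU, hw⟩ := exists_affine_nhd_etale U x
  refine ⟨W.left, k, hk, w, W.hom, hkU, hw, ⟨fun ξ x' => ?_⟩⟩
  have hWe : Etale W.hom := W.prop
  let c := pullback.condition (f := f) (g := W.hom)
  obtain ⟨η, hη⟩ := h W hW (cmp F f (pullback.fst f W.hom) rfl (n + 1) ξ)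
  obtain ⟨W', a, ha, y, w', hw', hy, h0⟩ := exists_res_eq_zero F n W.hom η x'
  refine ⟨W', a, ha, y, w', hw', hy, ?_⟩
  rw [← cmp_eq_zero_iff F f (pullback.fst f w') rfl]
  have e0 : mZ f a hw' ≫ pullback.fst f W.hom ≫ f = pullback.fst f w' ≫ f := by
    rw [← Category.assoc, mZ_fst]
  rw [← res_cmp F f (pullback.fst f W.hom) rfl (pullback.fst f w') rfl (mZ f a hw')
    (mZ_fst f a hw') e0 (n + 1) ξ, ← hη]
  have e1 := res_res F (pullback.snd f W.hom) c.symm (mZ f a hw') e0 _ rfl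
    (by rw [Category.assoc, ← c, e0]) (n + 1) η
  have e2 : pullback.snd f w' ≫ a = mZ f a hw' ≫ pullback.snd f W.hom := (mZ_snd f a hw').symm
  have e3 := res_res F a hw' (pullback.snd f w') pullback.condition.symm _ e2
    (by rw [Category.assoc, ← c, e0]) (n + 1) η
  rw [e1, ← e3, h0, map_zero]

/-- Sections over étale `W` are global sections of the inverse image. -/
theorem bijAt_iff_pull {F G : EtCoh.Ab Y} (φ : F ⟶ G) (W : Y.Etale) :
    BijAt φ W ↔ BijAt ((EtCoh.pull W.hom).map φ) (EtCoh.top W.left) := by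
  have hWe : Etale W.hom := W.prop
  have hc := sq_cond W.hom (W := W) (𝟙 W.left) (Category.id_comp _)
  have h1 : IsIso (Etcore.SecPull.sq W.hom F (V := W) (W := EtCoh.top W.left) (𝟙 W.left) hc) :=
    Etcore.SecPull.sq_isIso_of_etale W.hom F _ _
      (inferInstanceAs (IsIso (𝟙 W.left : W.left ⟶ W.left)))
  have h2 : IsIso (Etcore.SecPull.sq W.hom G (V := W) (W := EtCoh.top W.left) (𝟙 W.left) hc) :=
    Etcore.SecPull.sq_isIso_of_etale W.hom G _ _
      (inferInstanceAs (IsIso (𝟙 W.left : W.left ⟶ W.left)))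
  have h3 := Etcore.SecPull.sq_naturality W.hom φ (V := W) (W := EtCoh.top W.left) (𝟙 W.left) hc
  rw [bijAt_iff_isIso, bijAt_iff_isIso]
  constructor
  · intro h
    have h4 : IsIso (φ.hom.app (op W) ≫
      Etcore.SecPull.sq W.hom G (V := W) (W := EtCoh.top W.left) (𝟙 W.left) hc) := inferInstance
    rw [h3] at h4
    exact IsIso.of_isIso_comp_left
      (Etcore.SecPull.sq W.hom F (V := W) (W := EtCoh.top W.left) (𝟙 W.left) hc) _
  · intro h
    have h4 : IsIso (Etcore.SecPull.sq W.hom F (V := W) (W := EtCoh.top W.left) (𝟙 W.left) hc ≫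
      ((EtCoh.pull W.hom).map φ).hom.app (op (EtCoh.top W.left))) := inferInstance
    rw [← h3] at h4
    exact IsIso.of_isIso_comp_right _
      (Etcore.SecPull.sq W.hom G (V := W) (W := EtCoh.top W.left) (𝟙 W.left) hc)

/-- A map of sheaves bijective on sections over all affine étale schemes is an isomorphism. -/
theorem isIso_of_bijAt_affine {F G : EtCoh.Ab Y} (φ : F ⟶ G)
    (h : ∀ W : Y.Etale, IsAffine W.left → BijAt φ W) : IsIso φ := by
  have h1 : Mono φ := by
    refine Etcore.Stalks.mono_of_stalks φ fun y => ?_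
    obtain ⟨Ω, _, _, ξ, hξ⟩ := EtpbcA.StalkTools.exists_geomPt y
    refine ⟨Ω, inferInstance, inferInstance, ξ, hξ, ?_⟩
    rw [injective_iff_map_eq_zero]
    intro p hp
    obtain ⟨U, x, s, rfl⟩ := EtpbcA.StalkTools.germ_surj ξ p
    rw [EtpbcA.StalkTools.stalk_map_germ] at hp
    have hp' : EtpbcA.StalkTools.germ ξ x (φ.hom.app (op U) s) =
        EtpbcA.StalkTools.germ ξ x (0 : EtCoh.sect G U) := hp.trans (map_zero _).symm
    obtain ⟨V, g, v, hv, he⟩ := (EtpbcA.StalkTools.germ_eq_iff ξ x _ _).1 hp'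
    obtain ⟨W, hW, k, w, hw⟩ := EtpbcA.Present.exists_affine_nhd V (EtpbcA.StalkTools.fibPt ξ v)
    obtain ⟨w', hw', -⟩ := EtpbcA.StalkTools.exists_fib_lift ξ k v w hw
    refine (EtpbcA.StalkTools.germ_eq_iff ξ x s 0).2 ⟨W, k ≫ g, w', ?_, ?_⟩ |>.trans (map_zero _)
    · rw [Functor.map_comp, ← hv, ← hw']; rfl
    · rw [map_zero]
      apply (h W hW).1
      rw [map_zero]
      have e1 := ConcreteCategory.congr_hom (φ.hom.naturality (k ≫ g).op) s
      refine e1.trans ?_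
      change G.obj.map (k ≫ g).op (φ.hom.app (op U) s) = 0
      rw [op_comp, Functor.map_comp]
      change G.obj.map k.op (G.obj.map g.op (φ.hom.app (op U) s)) = 0
      rw [he, map_zero, map_zero]
  have h2 : Epi φ := by
    rw [EtpbcA.StalkTools.epi_iff_locIm]
    intro U s x
    obtain ⟨W, hW, k, w, hw⟩ := EtpbcA.Present.exists_affine_nhd U x
    obtain ⟨t, ht⟩ := (h W hW).2 (G.obj.map k.op s)
    exact ⟨W, k, w, hw, t, ht⟩
  exact isIso_of_mono_of_epi φ

theorem bijAt_of_comp_right {F G H : EtCoh.Ab X} (φ : F ⟶ G) (ψ : G ⟶ H) (U : X.Etale)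
    (h₁ : BijAt ψ U) (h₂ : BijAt (φ ≫ ψ) U) : BijAt φ U := by
  have h : Function.Bijective (ψ.hom.app (op U) ∘ φ.hom.app (op U)) := h₂
  exact (Function.Bijective.of_comp_iff' h₁ _).1 h

theorem bijAt_pull_unit {f : X ⟶ Y} {X' Y' : Scheme.{u}} {g : Y' ⟶ Y} [Etale g] {f' : X' ⟶ Y'}
    {g' : X' ⟶ X} (H : IsPullback g' f' f g) (F : EtCoh.Ab Y)
    (h : BijAt ((EtCoh.pullPushAdj f').unit.app ((EtCoh.pull g).obj F)) (EtCoh.top Y')) :
    BijAt ((EtCoh.pull g).map ((EtCoh.pullPushAdj f).unit.app F)) (EtCoh.top Y') := by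
  have hbc := Ega2.LACBc.isIso_baseChange0_of_etale H ((EtCoh.pull f).obj F)
  have e := Ega2.LACBc.pull_unit_baseChange0 f g f' g' H.w F
  have h2 := bijAt_comp _ _ _ h (bijAt_of_isIso ((EtCoh.push f').map
    ((Sga4B.HpullSquare.pullSquare g f f' g' H.w).hom.app F)) (EtCoh.top Y'))
  rw [← e] at h2
  exact bijAt_of_comp_right _ _ _ (bijAt_of_isIso (EtCoh.baseChange0 f g f' g' H.w
    ((EtCoh.pull f).obj F)) (EtCoh.top Y')) h2

/-- The unit is an isomorphism if pullback is bijective in degree `0` on affine étale schemes. -/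
theorem isIso_unit_of_bijective (f : X ⟶ Y) (F : EtCoh.Ab Y)
    (h : ∀ W : Y.Etale, IsAffine W.left → Function.Bijective
      (EtCore.Hpull (pullback.snd f W.hom) ((EtCoh.pull W.hom).obj F) 0)) :
    IsIso ((EtCoh.pullPushAdj f).unit.app F) := by
  refine isIso_of_bijAt_affine _ fun W hW => ?_
  have hWe : Etale W.hom := W.prop
  rw [bijAt_iff_pull]
  exact bijAt_pull_unit (IsPullback.of_hasPullback f W.hom) F
    ((EtpbcA.LA.bijective_Hpull_zero_iff _ _).1 (h W hW))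

/-- `res` along a base change is `EtCore.Hpull` up to bijections. -/
theorem surjective_res_of_Hpull {T Z : Scheme.{u}} (F : EtCoh.Ab Y) (z : Z ⟶ Y) (k : T ⟶ Z)
    {t : T ⟶ Y} (h : k ≫ z = t) (n : ℕ)
    (hs : Function.Surjective (EtCore.Hpull k ((EtCoh.pull z).obj F) n)) :
    Function.Surjective (res F k h n) := by
  have h1 := (Etcore.HpullCalc.surjective_Hpull_iff k _ n).1 hs
  have h2 : ⇑(res F k h n) = ⇑(HHmap (Etcore.PullCoh.th k z t h F) n) ∘
      ⇑(Etcore.HpullCalc.hp k ((EtCoh.pull z).obj F) n) := funext fun x => res_apply F k h n x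
  rw [h2]
  exact (HHmap_bijective _ n).2.comp h1

/-- **Truncated acyclicity from affine étale schemes.** -/
theorem acycLE_of_affine (f : X ⟶ Y) (F : EtCoh.Ab Y) (n : ℕ)
    (h0 : ∀ W : Y.Etale, IsAffine W.left → Function.Bijective
      (EtCore.Hpull (pullback.snd f W.hom) ((EtCoh.pull W.hom).obj F) 0))
    (h : ∀ W : Y.Etale, IsAffine W.left → ∀ q : ℕ, q + 1 ≤ n → Function.Surjective
      (EtCore.Hpull (pullback.snd f W.hom) ((EtCoh.pull W.hom).obj F) (q + 1))) :
    AcycLE f n F :=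
  ⟨isIso_unit_of_bijective f F h0, fun q hq => isZero_Rpush_of_surjective f F q fun W hW =>
    surjective_res_of_Hpull F W.hom _ _ _ (h W hW q hq)⟩

end Groth.Agent.Etbc.H229.LocalA
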