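import Groth.Agent.Etbc.H229.AcycLE
import Groth.Agent.EtpbcB.NKillEt
import Groth.Agent.EtpbcB.TorsionBasic
import Groth.Agent.S0651
import Mathlib.AlgebraicGeometry.ZariskisMainTheorem

/-!
# Truncated acyclicity after locally quasi-finite base change

`acycLE_of_locallyQuasiFinite`: if for all étale `V ⟶ Y` the base change of `g : X ⟶ Y` to `V` is acyclic in degrees
`≤ n` for all sheaves killed by `m`, then so is the base change of `g` along any locally quasi-finite
`i : Y' ⟶ Y` (locally of finite type).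
-/

set_option autoImplicit false
universe u

open CategoryTheory CategoryTheory.Limits AlgebraicGeometry Opposite

namespace Groth.Agent.Etbc.H229.QuasiFinite

open Groth.Agent.Etbc.H229.AcycLE Groth.Agent.EtpbcB

variable {X Y X' Y' : Scheme.{u}}

theorem acycLE_of_affineOpens {g : X ⟶ Y} {n m : ℕ}
    (hg : ∀ (V : Y.Etale) (F : EtCoh.Ab V.left), EtCoh.KilledBy m F → AcycLE (EtAcyc.prj g V) n F)
    {i : Y' ⟶ Y} [LocallyQuasiFinite i] [LocallyOfFiniteType i] {f' : X' ⟶ Y'} {g' : X' ⟶ X}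
    (H : IsPullback g' f' g i) (E : EtCoh.Ab Y') (hE : EtCoh.KilledBy m E)
    (U₀ : Y.Opens) (hU₀ : IsAffineOpen U₀) (U' : Y'.Opens) (hU' : IsAffineOpen U')
    (hle : U' ≤ i ⁻¹ᵁ U₀) :
    AcycLE (pullback.snd f' U'.ι) n ((EtCoh.pull U'.ι).obj E) := by
  have i1 : IsAffine U' := hU'
  have i2 : IsAffine U₀ := hU₀
  let r : (U' : Scheme.{u}) ⟶ U₀ := i.resLE U₀ U' hle
  have hr : r ≫ U₀.ι = U'.ι ≫ i := Scheme.Hom.resLE_comp_ι _ _
  have hsep : IsSeparated r := inferInstance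
  have hqc : QuasiCompact r := inferInstance
  have hlft : LocallyOfFiniteType r := inferInstance
  have hlqf : LocallyQuasiFinite r := inferInstance
  obtain ⟨N, a, b, ha, hb, hab⟩ : ∃ (N : Scheme.{u}) (a : (U' : Scheme.{u}) ⟶ N)
      (b : N ⟶ (U₀ : Scheme.{u})), IsOpenImmersion a ∧ IsIntegralHom b ∧ a ≫ b = r :=
    ⟨_, r.toNormalization, r.fromNormalization, inferInstance, inferInstance,
      r.toNormalization_fromNormalization⟩
  let V : Y.Etale := Scheme.Etale.mk U₀.ι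
  let E' := (EtCoh.pull U'.ι).obj E
  have hE' : EtCoh.KilledBy m E' := NKillEt.killedBy_pull U'.ι hE
  let E'' := (EtCoh.push a).obj E'
  have hE'' : EtCoh.KilledBy m ((EtCoh.push b).obj E'') :=
    TorsionBasic.killedBy_map (EtCoh.push b) m _ (TorsionBasic.killedBy_map (EtCoh.push a) m _ hE')
  have h1 : AcycLE (pullback.fst b (EtAcyc.prj g V)) n E'' :=
    AcycLE.of_push (IsPullback.of_hasPullback b (EtAcyc.prj g V)) (hg V _ hE'')
  have R : IsPullback (pullback.snd b (EtAcyc.prj g V) ≫ pullback.snd V.hom g)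
      (pullback.fst b (EtAcyc.prj g V)) g (b ≫ V.hom) :=
    (IsPullback.of_hasPullback b (EtAcyc.prj g V)).flip.paste_horiz
      (IsPullback.of_hasPullback V.hom g).flip
  have B : IsPullback (pullback.fst f' U'.ι ≫ g') (pullback.snd f' U'.ι) g (U'.ι ≫ i) :=
    (IsPullback.of_hasPullback f' U'.ι).paste_horiz H
  have hbot : U'.ι ≫ i = a ≫ b ≫ V.hom := by
    rw [← hr, ← hab]
    exact Category.assoc _ _ _
  rw [hbot] at B
  have hcomm : (pullback.fst f' U'.ι ≫ g') ≫ g = (pullback.snd f' U'.ι ≫ a) ≫ b ≫ V.hom := by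
    rw [B.w, Category.assoc]
  let t := R.lift (pullback.fst f' U'.ι ≫ g') (pullback.snd f' U'.ι ≫ a) hcomm
  have ht1 : t ≫ pullback.snd b (EtAcyc.prj g V) ≫ pullback.snd V.hom g =
    pullback.fst f' U'.ι ≫ g' := R.lift_fst _ _ _
  have ht2 : t ≫ pullback.fst b (EtAcyc.prj g V) = pullback.snd f' U'.ι ≫ a := R.lift_snd _ _ _
  rw [← ht1] at B
  have S : IsPullback t (pullback.snd f' U'.ι) (pullback.fst b (EtAcyc.prj g V)) a :=
    IsPullback.of_right B ht2 R
  have h2 : AcycLE (pullback.snd f' U'.ι) n ((EtCoh.pull a).obj E'') := h1.of_etale S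
  have hj := Sga4h.EtaleRes.jCont a
  have hcounit : IsIso ((EtCoh.pullPushAdj a).counit.app E') := (Groth.Agent.S0651.result a E').1
  have e : (EtCoh.pull a).obj E'' ≅ E' := asIso ((EtCoh.pullPushAdj a).counit.app E')
  exact h2.of_iso e

theorem acycLE_of_locallyQuasiFinite {g : X ⟶ Y} {n m : ℕ}
    (hg : ∀ (V : Y.Etale) (F : EtCoh.Ab V.left), EtCoh.KilledBy m F → AcycLE (EtAcyc.prj g V) n F)
    {i : Y' ⟶ Y} [LocallyQuasiFinite i] [LocallyOfFiniteType i] {f' : X' ⟶ Y'} {g' : X' ⟶ X}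
    (H : IsPullback g' f' g i) (E : EtCoh.Ab Y') (hE : EtCoh.KilledBy m E) : AcycLE f' n E := by
  refine AcycLE.of_local fun y' => ?_
  obtain ⟨U₀, hU₀, hy0, -⟩ := exists_isAffineOpen_mem_and_subset (X := Y) (x := i y') (U := ⊤) trivial
  obtain ⟨U', hU', hy', hle⟩ := exists_isAffineOpen_mem_and_subset (X := Y') (x := y')
    (U := i ⁻¹ᵁ U₀) hy0
  exact ⟨U', pullback f' U'.ι, U'.ι, inferInstance, pullback.snd f' U'.ι, pullback.fst f' U'.ι,
    IsPullback.of_hasPullback _ _, ⟨⟨y', hy'⟩, rfl⟩,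
    acycLE_of_affineOpens hg H E hE U₀ hU₀ U' hU' hle⟩

end Groth.Agent.Etbc.H229.QuasiFinite
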