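import Groth.Agent.EtpbcB.HRel
import Groth.Agent.EtpbcB.CmpTools
import Groth.Agent.EtpbcB.SurjFaithful
import Groth.Agent.Sga4B.HpullSquare

/-!
# Transport of properties of `EtCore.Hpull` along isomorphisms of the source, surjective morphisms

* `bijective_of_isPullback`, `surjective_of_isPullback`, `injective_of_isPullback`: two pullbacks of the
  same morphism along the same morphism give pullback maps with the same properties;
* `injective_Hpull_zero`: along a surjective morphism pullback is injective in degree `0`.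
-/

set_option autoImplicit false
universe u

open CategoryTheory CategoryTheory.Limits AlgebraicGeometry Opposite Abelian

namespace Groth.Agent.Etbc.H229.Transport

open Groth.Agent.EtpbcB

variable {X X' Y S Z : Scheme.{u}}

theorem comp_eq (f : X ⟶ Y) (e : X' ⟶ X) (f' : X' ⟶ Y) (w : e ≫ f = f')
    [PreservesFiniteLimits (EtCoh.pull f)] [PreservesFiniteLimits (EtCoh.pull f')]
    (G : EtCoh.Ab Y) (q : ℕ) :
    (EtCore.Hpull f' G q : _ → _) = (EtCore.HpullVia e f f' w G q : _ → _) ∘ (EtCore.Hpull f G q : _ → _) :=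
  funext fun x => (HRel.Hpull_comp e f f' w G q x).symm

theorem bijective_of_iso (f : X ⟶ Y) (e : X' ⟶ X) [IsIso e] (f' : X' ⟶ Y) (w : e ≫ f = f')
    [PreservesFiniteLimits (EtCoh.pull f)] [PreservesFiniteLimits (EtCoh.pull f')]
    (G : EtCoh.Ab Y) (q : ℕ) (h : Function.Bijective (EtCore.Hpull f G q)) :
    Function.Bijective (EtCore.Hpull f' G q) := by
  rw [comp_eq f e f' w]
  exact (HRel.bijective_HpullVia e f f' w G q).comp h

theorem surjective_of_iso (f : X ⟶ Y) (e : X' ⟶ X) [IsIso e] (f' : X' ⟶ Y) (w : e ≫ f = f')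
    [PreservesFiniteLimits (EtCoh.pull f)] [PreservesFiniteLimits (EtCoh.pull f')]
    (G : EtCoh.Ab Y) (q : ℕ) (h : Function.Surjective (EtCore.Hpull f G q)) :
    Function.Surjective (EtCore.Hpull f' G q) := by
  rw [comp_eq f e f' w]
  exact (HRel.bijective_HpullVia e f f' w G q).2.comp h

theorem injective_of_iso (f : X ⟶ Y) (e : X' ⟶ X) [IsIso e] (f' : X' ⟶ Y) (w : e ≫ f = f')
    [PreservesFiniteLimits (EtCoh.pull f)] [PreservesFiniteLimits (EtCoh.pull f')]
    (G : EtCoh.Ab Y) (q : ℕ) (h : Function.Injective (EtCore.Hpull f G q)) :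
    Function.Injective (EtCore.Hpull f' G q) := by
  rw [comp_eq f e f' w]
  exact (HRel.bijective_HpullVia e f f' w G q).1.comp h

section Pullback

variable {P P' : Scheme.{u}} {g : X ⟶ Y} {i : Z ⟶ Y} {a : P ⟶ X} {b : P ⟶ Z} {a' : P' ⟶ X}
  {b' : P' ⟶ Z} (H : IsPullback a b g i) (H' : IsPullback a' b' g i)
  [PreservesFiniteLimits (EtCoh.pull b)] [PreservesFiniteLimits (EtCoh.pull b')]
  (G : EtCoh.Ab Z) (q : ℕ)

include H H'

theorem bijective_of_isPullback (h : Function.Bijective (EtCore.Hpull b G q)) :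
    Function.Bijective (EtCore.Hpull b' G q) :=
  bijective_of_iso b (H'.isoIsPullback _ _ H).hom b' (H'.isoIsPullback_hom_snd _ _ H) G q h

theorem surjective_of_isPullback (h : Function.Surjective (EtCore.Hpull b G q)) :
    Function.Surjective (EtCore.Hpull b' G q) :=
  surjective_of_iso b (H'.isoIsPullback _ _ H).hom b' (H'.isoIsPullback_hom_snd _ _ H) G q h

theorem injective_of_isPullback (h : Function.Injective (EtCore.Hpull b G q)) :
    Function.Injective (EtCore.Hpull b' G q) :=
  injective_of_iso b (H'.isoIsPullback _ _ H).hom b' (H'.isoIsPullback_hom_snd _ _ H) G q h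

end Pullback

open Sga4B.ExtCmp in
/-- Along a surjective morphism, pullback is injective in degree zero. -/
theorem injective_cmp_zero (f : X ⟶ Y) [Surjective f] (G : EtCoh.Ab Y) :
    Function.Injective (cmp (EtCoh.pull f) (EtCore.pullConst f ℤ).inv G 0) := by
  rw [injective_iff_map_eq_zero]
  intro x hx
  obtain ⟨φ, rfl⟩ := (Ext.mk₀_bijective _ _).2 x
  rw [cmp_apply, Ext.mapExactFunctor_mk₀, Ext.mk₀_comp_mk₀] at hx
  have h1 : (EtCore.pullConst f ℤ).inv ≫ (EtCoh.pull f).map φ = 0 := by
    apply (Ext.mk₀_bijective _ _).1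
    rw [hx, Ext.mk₀_zero]
  have h2 : (EtCoh.pull f).map φ = 0 := by
    rw [← cancel_epi (EtCore.pullConst f ℤ).inv, h1, comp_zero]
  have h3 := (EtCoh.pullPushAdj f).unit.naturality φ
  have h4 := Groth.Agent.EtpbcB.SurjFaithful.mono_unit f G
  have h5 : φ = 0 := by
    rw [← cancel_mono ((EtCoh.pullPushAdj f).unit.app G), zero_comp]
    refine h3.trans ?_
    change _ ≫ (EtCoh.push f).map ((EtCoh.pull f).map φ) = 0
    rw [h2, Functor.map_zero, comp_zero]
  rw [h5, Ext.mk₀_zero]

theorem injective_Hpull_zero (f : X ⟶ Y) [Surjective f] [PreservesFiniteLimits (EtCoh.pull f)]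
    (G : EtCoh.Ab Y) : Function.Injective (EtCore.Hpull f G 0) := by
  rw [Sga4B.HpullSquare.Hpull_eq_cmp]
  exact injective_cmp_zero f G

end Groth.Agent.Etbc.H229.Transport
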