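import Groth.Prelude.Def_EtAcyc
import Groth.Agent.Sga4h.Acyc
import Groth.Agent.Sga4h.IntPushZero
import Groth.Agent.Etcore.LimBC1
import Groth.Agent.Ega2.LACBc
import Groth.Agent.Sga4A.IntegralSection
import Groth.Agent.EtpbcA.PullFLC
import Groth.Agent.S0655

/-!
# Truncated acyclicity of a morphism for a single sheaf

`AcycLE f n F`: the unit `F ⟶ f_* f⁻¹ F` is an isomorphism and `R^q f_* f⁻¹ F = 0` for `1 ≤ q ≤ n`.

* `AcycLE.of_iso`
* `AcycLE.of_push`: for a cartesian square on an integral morphism `π`, acyclicity of `f` for `π_* M` gives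
  acyclicity of the base change of `f` for `M`;
* `AcycLE.of_etale`: stability under étale base change;
* `AcycLE.of_local`: étale local on the target.
-/

set_option autoImplicit false
universe u

open CategoryTheory CategoryTheory.Limits AlgebraicGeometry Opposite

namespace Groth.Agent.Etbc.H229.AcycLE

open Groth.Agent.Sga4h Groth.Agent.Sga4h.PushDer Groth.Agent.Etcore.LimBC1

variable {X Y S T X' Y' : Scheme.{u}}

/-- `F → f_* f^* F` is an isomorphism and `R^q f_* f^* F = 0` for `1 ≤ q ≤ n`. -/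
def AcycLE (f : X ⟶ S) (n : ℕ) (F : EtCoh.Ab S) : Prop :=
  IsIso ((EtCoh.pullPushAdj f).unit.app F) ∧
    ∀ q : ℕ, q + 1 ≤ n → IsZero ((EtCoh.Rpush f (q + 1)).obj ((EtCoh.pull f).obj F))

theorem AcycLE.mono {f : X ⟶ S} {n m : ℕ} (h : m ≤ n) {F : EtCoh.Ab S} (H : AcycLE f n F) :
    AcycLE f m F :=
  ⟨H.1, fun q hq => H.2 q (hq.trans h)⟩

theorem AcycLE.of_iso {f : X ⟶ S} {n : ℕ} {F G : EtCoh.Ab S} (e : F ≅ G) (h : AcycLE f n F) :
    AcycLE f n G := by
  refine ⟨?_, fun q hq => (h.2 q hq).of_iso ((EtCoh.Rpush f (q + 1)).mapIso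
    ((EtCoh.pull f).mapIso e.symm))⟩
  exact (NatTrans.isIso_app_iff_of_iso (EtCoh.pullPushAdj f).unit e).1 h.1

/-- Direct image along integral morphisms. -/
theorem AcycLE.of_push {π : T ⟶ S} [IsIntegralHom π] {f : X ⟶ S} {fT : Y ⟶ T} {π' : Y ⟶ X}
    (H : IsPullback fT π' π f) {n : ℕ} {M : EtCoh.Ab T}
    (h : AcycLE f n ((EtCoh.push π).obj M)) : AcycLE fT n M := by
  have hbc : IsIso (EtCoh.baseChange0 π f π' fT H.w M) :=
    Groth.Agent.S0655.result π f π' fT H M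
  have hπ' : IsIntegralHom π' := MorphismProperty.of_isPullback H inferInstance
  have hr := IntPushZero.reflectsIsomorphisms_push π
  have hex := Sga4A.EtSplit.preservesFiniteColimits_push π
  refine ⟨?_, fun q hq => ?_⟩
  · have h1 := (Acyc.isIso_unit_push_iff π f fT π' H.w M).1 h.1
    exact isIso_of_reflects_iso _ (EtCoh.push π)
  · have e := Acyc.rpushPushIso π f fT π' H.w M
      (fun F p hp => Sga4A.EtSplit.isZero_Rpush π' F p hp) (q + 1)
    exact IntPushZero.isZero_of_isZero_push π _ ((h.2 q hq).of_iso e.symm)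

/-- The inverse image along the identity. -/
noncomputable def pullId (X : Scheme.{u}) : EtCoh.pull (𝟙 X) ≅ 𝟭 (EtCoh.Ab X) :=
  EtpbcA.PullFLC.pullId X

theorem isZero_Rpush_pullId_iff (f : X ⟶ Y) (G : EtCoh.Ab X) (q : ℕ) :
    IsZero ((EtCoh.Rpush f q).obj ((EtCoh.pull (𝟙 X)).obj G)) ↔ IsZero ((EtCoh.Rpush f q).obj G) :=
  ⟨fun h => h.of_iso ((EtCoh.Rpush f q).mapIso ((pullId X).app G)).symm,
    fun h => h.of_iso ((EtCoh.Rpush f q).mapIso ((pullId X).app G))⟩

theorem isZero_Rpush_iff_hz' (f : X ⟶ Y) (G : EtCoh.Ab X) (q : ℕ) :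
    IsZero ((EtCoh.Rpush f (q + 1)).obj G) ↔ ∀ U : Y.Etale, HZ f G (q + 1) U.hom := by
  rw [← isZero_Rpush_pullId_iff, isZero_Rpush_iff_hz (f := f) (g := 𝟙 Y) IsPullback.of_id_fst G q]
  constructor
  · intro h U
    exact h U U.hom (Category.comp_id _)
  · intro h U u hu
    obtain rfl : u = U.hom := hu.symm.trans (Category.comp_id U.hom)
    exact h U

theorem isZero_Rpush_of_etale {f : X ⟶ Y} {g : Y' ⟶ Y} [Etale g] {f' : X' ⟶ Y'} {g' : X' ⟶ X}
    (H : IsPullback g' f' f g) (G : EtCoh.Ab X) (q : ℕ)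
    (h : IsZero ((EtCoh.Rpush f (q + 1)).obj G)) :
    IsZero ((EtCoh.Rpush f' (q + 1)).obj ((EtCoh.pull g').obj G)) := by
  rw [isZero_Rpush_iff_hz H G q]
  rintro U u rfl
  have := U.prop
  exact (isZero_Rpush_iff_hz' f G q).1 h (Scheme.Etale.mk (U.hom ≫ g))

theorem isZero_Rpush_of_local {f : X ⟶ Y} (G : EtCoh.Ab X) (q : ℕ)
    (h : ∀ y : Y, ∃ (Y' X' : Scheme.{u}) (g : Y' ⟶ Y) (_ : Etale g) (f' : X' ⟶ Y') (g' : X' ⟶ X)
      (_ : IsPullback g' f' f g), y ∈ Set.range g ∧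
      IsZero ((EtCoh.Rpush f' (q + 1)).obj ((EtCoh.pull g').obj G))) :
    IsZero ((EtCoh.Rpush f (q + 1)).obj G) := by
  rw [isZero_Rpush_iff_hz' f G q]
  intro U
  refine HZ.of_local fun x => ?_
  obtain ⟨Y', X', g, hg, f', g', H, ⟨y', hy'⟩, h0⟩ := h (U.hom x)
  obtain ⟨p, hp1, hp2⟩ := Scheme.Pullback.exists_preimage_pullback (f := U.hom) (g := g) x y' hy'.symm
  have hU : Etale U.hom := U.prop
  refine ⟨pullback U.hom g, pullback.fst _ _, inferInstance, p, _, rfl, hp1, ?_⟩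
  exact (isZero_Rpush_iff_hz H G q).1 h0 (Scheme.Etale.mk (pullback.snd U.hom g)) _
    pullback.condition.symm

/-- Étale base change. -/
theorem AcycLE.of_etale {f : X ⟶ Y} {g : Y' ⟶ Y} [Etale g] {f' : X' ⟶ Y'} {g' : X' ⟶ X}
    (H : IsPullback g' f' f g) {n : ℕ} {F : EtCoh.Ab Y} (h : AcycLE f n F) :
    AcycLE f' n ((EtCoh.pull g).obj F) := by
  have hbc := Groth.Agent.Ega2.LACBc.isIso_baseChange0_of_etale H ((EtCoh.pull f).obj F)
  have h1 := h.1
  refine ⟨?_, fun q hq => ?_⟩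
  · have e := Groth.Agent.Ega2.LACBc.pull_unit_baseChange0 f g f' g' H.w F
    have h2 : IsIso ((EtCoh.pullPushAdj f').unit.app ((EtCoh.pull g).obj F) ≫
        (EtCoh.push f').map ((Sga4B.HpullSquare.pullSquare g f f' g' H.w).hom.app F)) := by
      rw [← e]
      infer_instance
    exact IsIso.of_isIso_comp_right _
      ((EtCoh.push f').map ((Sga4B.HpullSquare.pullSquare g f f' g' H.w).hom.app F))
  · exact (isZero_Rpush_of_etale H _ q (h.2 q hq)).of_iso
      ((EtCoh.Rpush f' (q + 1)).mapIso ((Sga4B.HpullSquare.pullSquare g f f' g' H.w).app F))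

/-- étale locality on the base -/
theorem AcycLE.of_local {f : X ⟶ Y} {n : ℕ} {F : EtCoh.Ab Y}
    (h : ∀ y : Y, ∃ (Y' X' : Scheme.{u}) (g : Y' ⟶ Y) (_ : Etale g) (f' : X' ⟶ Y') (g' : X' ⟶ X)
      (_ : IsPullback g' f' f g), y ∈ Set.range g ∧ AcycLE f' n ((EtCoh.pull g).obj F)) :
    AcycLE f n F := by
  refine ⟨?_, fun q hq => ?_⟩
  · refine Etcore.Stalks.isIso_of_stalks _ fun y => ?_
    obtain ⟨Y', X', g, hg, f', g', H, ⟨y', hy'⟩, h1, -⟩ := h y
    let Ω : Type u := SeparableClosure (Y'.residueField y')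
    let ξ : Spec (.of Ω) ⟶ Y' := Spec.map (CommRingCat.ofHom
      (algebraMap (Y'.residueField y') Ω)) ≫ Y'.fromSpecResidueField y'
    have hξ : ξ default = y' := by
      rw [Scheme.Hom.comp_apply]
      exact Scheme.fromSpecResidueField_apply _ _
    refine ⟨Ω, inferInstance, inferInstance, ξ ≫ g, ?_, ?_⟩
    · rw [Scheme.Hom.comp_apply, hξ, hy']
    · refine (NatIso.isIso_map_iff (Etbase.StalkPull.stalkPullIso g ξ) _).2 ?_
      have hbc := Groth.Agent.Ega2.LACBc.isIso_baseChange0_of_etale H ((EtCoh.pull f).obj F)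
      have e := Groth.Agent.Ega2.LACBc.pull_unit_baseChange0 f g f' g' H.w F
      have h2 : IsIso ((EtCoh.pull g).map ((EtCoh.pullPushAdj f).unit.app F) ≫
          EtCoh.baseChange0 f g f' g' H.w ((EtCoh.pull f).obj F)) := by
        rw [e]
        infer_instance
      have h3 : IsIso ((EtCoh.pull g).map ((EtCoh.pullPushAdj f).unit.app F)) :=
        IsIso.of_isIso_comp_right _ (EtCoh.baseChange0 f g f' g' H.w ((EtCoh.pull f).obj F))
      exact inferInstanceAs (IsIso ((EtCoh.stalk ξ).map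
        ((EtCoh.pull g).map ((EtCoh.pullPushAdj f).unit.app F))))
  · refine isZero_Rpush_of_local _ q fun y => ?_
    obtain ⟨Y', X', g, hg, f', g', H, hy, h1⟩ := h y
    exact ⟨Y', X', g, hg, f', g', H, hy, (h1.2 q hq).of_iso ((EtCoh.Rpush f' (q + 1)).mapIso
      ((Sga4B.HpullSquare.pullSquare g f f' g' H.w).app F).symm)⟩

end Groth.Agent.Etbc.H229.AcycLE
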